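import Cfsg.Agent.Lib.FusionSystem.OmegaSeven.Sylow

/-!
No proper non-trivial subgroup of the monomial Sylow 2-subgroup is strongly closed.
-/

set_option autoImplicit false
set_option linter.unusedSectionVars false

namespace CfsgLib.Fsys.OmegaSeven

open Module QuadraticMap CfsgLib.Orth CfsgLib.OrthTwoRank

variable {F V : Type*} [Field F] [Fintype F] [AddCommGroup V] [Module F V] [FiniteDimensional F V]
  {Q : QuadraticForm F V}

namespace Ctx

variable (X : Ctx Q)

theorem even_pair {i j : Fin 7} (h : i ≠ j) : Even ({i, j} : Finset (Fin 7)).card := by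
  rw [Finset.card_pair h]; exact even_two

include X in
theorem exists_half_sum : ∃ x y : F, 2 * (x * x + y * y) = 1 := by
  have hodd : Fintype.card F % 2 = 1 := FiniteField.odd_card_of_char_ne_two fun h => X.two (by
    have : CharP F 2 := ringChar.of_eq h
    exact CharTwo.two_eq_zero)
  obtain ⟨x, y, h⟩ := FiniteField.exists_root_sum_quadratic (R := F) (f := Polynomial.X ^ 2)
    (g := Polynomial.X ^ 2 - Polynomial.C (2⁻¹)) (Polynomial.degree_X_pow 2)
    (Polynomial.degree_X_pow_sub_C (by norm_num) _) hodd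
  refine ⟨x, y, ?_⟩
  simp only [Polynomial.eval_pow, Polynomial.eval_X, Polynomial.eval_sub, Polynomial.eval_C] at h
  rw [show x * x + y * y = 2⁻¹ by linear_combination h, mul_inv_cancel₀ X.two]

/-- A product of two disjoint transpositions is conjugate to a diagonal element. -/
theorem conj_dswap {i j k l : Fin 7} (hij : i ≠ j) (hkl : k ≠ l) (hik : i ≠ k) (hil : i ≠ l)
    (hjk : j ≠ k) (hjl : j ≠ l) :
    ∃ g : commutator (orthGroup Q),
      g * X.d {0, 1} (even_pair (by decide)) * g⁻¹ = ⟨_, X.dswap_mem hij hkl⟩ := by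
  have : Finite V := Module.finite_of_finite F
  obtain ⟨x, y, hxy⟩ := X.exists_half_sum
  set u := X.f.b i - X.f.b j with hu
  set v := X.f.b k - X.f.b l with hv
  have hQu : Q u = 2 * X.c := quad_diff X.norm hij
  have hQv : Q v = 2 * X.c := quad_diff X.norm hkl
  have huv : polar Q u v = 0 := by
    simp only [hu, hv, polar_sub_left, polar_sub_right, X.f.orth _ _ hik, X.f.orth _ _ hil, X.f.orth _ _ hjk,
      X.f.orth _ _ hjl, sub_zero]
  set w₁ := x • u + y • v with hw₁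
  set w₂ := (-y) • u + x • v with hw₂
  have hQw₁ : Q w₁ = X.c := by
    rw [hw₁, quad_add', quad_smul', quad_smul', polar_smul_l', polar_smul_r', huv, hQu, hQv]
    linear_combination X.c * hxy
  have hQw₂ : Q w₂ = X.c := by
    rw [hw₂, quad_add', quad_smul', quad_smul', polar_smul_l', polar_smul_r', huv, hQu, hQv]
    linear_combination X.c * hxy
  have hw : polar Q w₁ w₂ = 0 := by
    simp only [hw₁, hw₂, polar_add_left, polar_add_right, polar_smul_l', polar_smul_r', polar_self', hQu, hQv,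
      huv, polar_comm _ v u]
    ring
  have hrefl : refl Q u * refl Q v = refl Q w₁ * refl Q w₂ := by
    refine ext_frame (f := X.f) fun m => ?_
    rw [refl_refl_apply huv, refl_refl_apply hw, hQu, hQv, hQw₁, hQw₂, hw₁, hw₂]
    simp only [polar_add_left, polar_smul_l', smul_add, smul_smul]
    set A := polar Q u (X.f.b m)
    set B := polar Q v (X.f.b m)
    have h2 := X.two
    have hc := X.c_ne
    clear_value A B u v
    match_scalars
    · field_simp
    · field_simp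
      linear_combination A * hxy
    · field_simp
      linear_combination B * hxy
  have hne : ∀ t : Fin 2, (![X.f.b 0, X.f.b 1] : Fin 2 → V) t ≠ 0 := fun t => by
    fin_cases t <;> simp [X.f.b.ne_zero]
  have hind : LinearIndependent F (![w₁, w₂] : Fin 2 → V) := by
    rw [Fintype.linearIndependent_iff]
    intro a ha t
    simp only [Fin.sum_univ_two, Matrix.cons_val_zero, Matrix.cons_val_one] at ha
    have h1 := congrArg (polarBilin Q w₁) ha
    have h2' := congrArg (polarBilin Q w₂) ha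
    simp only [map_add, map_smul, map_zero, polarBilin_apply_apply, polar_self', hQw₁, hQw₂, hw,
      polar_comm _ w₂ w₁, smul_eq_mul, mul_zero, add_zero, zero_add, mul_eq_zero, X.two, X.c_ne, or_false] at h1 h2'
    fin_cases t
    · exact h1
    · exact h2'
  have hind0 : LinearIndependent F (![X.f.b 0, X.f.b 1] : Fin 2 → V) := by
    have h := X.f.b.linearIndependent.comp ![(0 : Fin 7), 1] (by decide)
    have he : (![X.f.b 0, X.f.b 1] : Fin 2 → V) = X.f.b ∘ ![(0 : Fin 7), 1] := by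
      funext t; fin_cases t <;> rfl
    rwa [he]
  have h01 : polar Q (X.f.b 0) (X.f.b 1) = 0 := X.f.orth 0 1 (by decide)
  obtain ⟨g₁, hg₁⟩ := witt_family' X.nd (![X.f.b 0, X.f.b 1]) ![w₁, w₂] hind0 hind
    (fun t => by fin_cases t <;> simp [X.norm, hQw₁, hQw₂])
    (fun s t => by
      fin_cases s <;> fin_cases t <;>
        simp [polar_self', X.norm, hQw₁, hQw₂, hw, h01, polar_comm _ (X.f.b 1) (X.f.b 0), polar_comm _ w₂ w₁])
  -- correct into the commutator subgroup
  let S : Subgroup (orthGroup Q) :=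
    { carrier := {g | g.1 (X.f.b 0) = X.f.b 0 ∧ g.1 (X.f.b 1) = X.f.b 1}
      one_mem' := ⟨rfl, rfl⟩
      mul_mem' := fun {a b} ha hb => ⟨by show a.1 (b.1 _) = _; rw [hb.1, ha.1],
        by show a.1 (b.1 _) = _; rw [hb.2, ha.2]⟩
      inv_mem' := fun {a} ha => ⟨by show a.1.symm _ = _; rw [LinearEquiv.symm_apply_eq, ha.1],
        by show a.1.symm _ = _; rw [LinearEquiv.symm_apply_eq, ha.2]⟩ }
  have h4 : Good F V := good_of_two_ne X.two
  obtain ⟨h, hh, hab⟩ := exists_mem_ab_eq X.nd h4 S (fun a ha => by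
    classical
    by_cases hs : IsSquare (Q (X.f.b 2) * Q a)
    · refine ⟨refl Q (X.f.b 2), ⟨refl_fix Q (X.f.orth _ _ (by decide)), refl_fix Q (X.f.orth _ _ (by decide))⟩,
        ab_refl_eq X.nd h4 (X.f.aniso 2) ha hs⟩
    · have hQd : Q (X.f.b 2 - X.f.b 3) = 2 * X.c := quad_diff X.norm (by decide)
      have hd : ∀ m : Fin 7, m ≠ 2 → m ≠ 3 → polar Q (X.f.b 2 - X.f.b 3) (X.f.b m) = 0 := fun m h2 h3 => by
        rw [polar_sub_left, X.f.orth _ _ h2.symm, X.f.orth _ _ h3.symm, sub_zero]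
      refine ⟨refl Q (X.f.b 2 - X.f.b 3), ⟨refl_fix Q (hd 0 (by decide) (by decide)),
        refl_fix Q (hd 1 (by decide) (by decide))⟩,
        ab_refl_eq X.nd h4 (hQd ▸ mul_ne_zero X.two X.c_ne) ha ?_⟩
      rw [hQd, mul_assoc, isSquare_mul_iff_iff X.two X.two (mul_ne_zero X.c_ne ha)]
      rw [X.norm] at hs
      exact iff_of_false X.nsq hs) g₁⁻¹
  have hgmem : g₁ * h ∈ commutator (orthGroup Q) := by
    rw [Orth.mem_commutator_iff, map_mul, hab, map_inv, mul_inv_cancel]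
  refine ⟨⟨g₁ * h, hgmem⟩, Subtype.ext ?_⟩
  show (g₁ * h) * el X.f {0, 1} * (g₁ * h)⁻¹ = refl Q u * refl Q v
  have hel : el X.f ({0, 1} : Finset (Fin 7)) = refl Q (X.f.b 0) * refl Q (X.f.b 1) := by
    refine ext_frame (f := X.f) fun m => ?_
    rw [el_apply X.two]
    show _ = (refl Q (X.f.b 0)).1 ((refl Q (X.f.b 1)).1 (X.f.b m))
    rcases eq_or_ne m 1 with rfl | hm1
    · rw [refl_self Q (X.f.aniso 1), map_neg, refl_fix Q h01, if_pos (by simp)]
    rw [refl_fix Q (X.f.orth _ _ hm1.symm)]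
    rcases eq_or_ne m 0 with rfl | hm0
    · rw [refl_self Q (X.f.aniso 0), if_pos (by simp)]
    · rw [refl_fix Q (X.f.orth _ _ hm0.symm), if_neg (by simp [hm0, hm1])]
  rw [hel, hrefl]
  have e1 : (g₁ * h).1 (X.f.b 0) = w₁ := by
    show g₁.1 (h.1 (X.f.b 0)) = w₁
    rw [hh.1]; exact hg₁ 0
  have e2 : (g₁ * h).1 (X.f.b 1) = w₂ := by
    show g₁.1 (h.1 (X.f.b 1)) = w₂
    rw [hh.2]; exact hg₁ 1
  rw [← e1, ← e2, ← conj_refl, ← conj_refl]
  group

/-- A non-trivial strongly closed subgroup of the monomial group is the whole group. -/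
theorem closed_eq {T : Subgroup (commutator (orthGroup Q))} (hTP : T ≤ X.P) (hne : T ≠ ⊥)
    (hcl : ∀ g x : commutator (orthGroup Q), x ∈ T → g * x * g⁻¹ ∈ X.P → g * x * g⁻¹ ∈ T) : X.P ≤ T := by
  classical
  have hconj : ∀ {g : commutator (orthGroup Q)} {p : Fin 7 → Fin 7} (_ : Mon X.f g.1 p) {S : Finset (Fin 7)}
      (hS : Even S.card), X.d S hS ∈ T → ∃ h, X.d (S.image p) h ∈ T := by
    intro g p hp S hS hT
    have h : Even (S.image p).card := by rwa [Finset.card_image_of_injective _ (X.mon_injective hp)]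
    have e : g * X.d S hS * g⁻¹ = X.d (S.image p) h := Subtype.ext (hp.conj_el X.two (X.mon_injective hp) S)
    exact ⟨h, e ▸ hcl g _ hT (e ▸ X.d_mem h)⟩
  have hmul : ∀ {A B : Finset (Fin 7)} (hA : Even A.card) (hB : Even B.card), X.d A hA ∈ T → X.d B hB ∈ T →
      ∃ h, X.d (symmDiff A B) h ∈ T := by
    intro A B hA hB h1 h2
    have e := el_mul_el X.two X.f A B
    refine ⟨X.even_of_mem (e ▸ mul_mem (X.el_mem hA) (X.el_mem hB)), ?_⟩
    convert mul_mem h1 h2 using 1
    exact Subtype.ext e.symm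
  -- a diagonal element
  obtain ⟨S, hSe, hSne, hST⟩ : ∃ S : Finset (Fin 7), ∃ h : Even S.card, S.Nonempty ∧ X.d S h ∈ T := by
    obtain ⟨t, ht, ht1⟩ := (Subgroup.bot_or_exists_ne_one T).resolve_left hne
    obtain ⟨k, hk⟩ := hTP ht
    rcases eq_or_ne k 0 with rfl | hk0
    · rw [L_zero] at hk
      obtain ⟨S, hS, rfl⟩ := X.exists_d hk
      refine ⟨S, hS, Finset.nonempty_iff_ne_empty.2 fun h => ht1 (Subtype.ext ?_), ht⟩
      subst h
      exact el_empty X.two X.f
    obtain ⟨j, hj⟩ : ∃ j, L k j ≠ j := by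
      by_contra h
      push Not at h
      exact hk0 (L_injective (by rw [L_zero]; exact funext h))
    obtain ⟨m, hmj, hmL⟩ : ∃ m : Fin 7, m ≠ j ∧ m ≠ L k j :=
      (by decide : ∀ j l : Fin 7, ∃ m : Fin 7, m ≠ j ∧ m ≠ l) j (L k j)
    set e := X.d {j, m} (even_pair hmj.symm) with he
    have heP : e ∈ X.P := X.d_mem _
    have hcm : t * (e * t⁻¹ * e⁻¹) ∈ T :=
      mul_mem ht (hcl e _ (inv_mem ht) (mul_mem (mul_mem heP (hTP (inv_mem ht))) (inv_mem heP)))
    have hte : (t * e * t⁻¹).1 = el X.f (({j, m} : Finset (Fin 7)).image (L k)) :=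
      hk.conj_el X.two (X.mon_injective hk) _
    have hval : (t * (e * t⁻¹ * e⁻¹)).1 = el X.f (symmDiff (({j, m} : Finset (Fin 7)).image (L k)) {j, m}) := by
      rw [← el_mul_el X.two, ← hte, show t * (e * t⁻¹ * e⁻¹) = t * e * t⁻¹ * e⁻¹ by group]
      show (t * e * t⁻¹).1 * (el X.f {j, m})⁻¹ = _
      rw [inv_eq_of_mul_eq_one_right (el_sq X.two X.f _)]
    have hev := X.even_of_mem (hval ▸ (t * (e * t⁻¹ * e⁻¹)).2)
    refine ⟨_, hev, ⟨L k j, ?_⟩, ?_⟩
    · rw [Finset.mem_symmDiff]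
      exact Or.inl ⟨Finset.mem_image_of_mem _ (by simp), by simp [hj, hmL.symm]⟩
    · rwa [show X.d _ hev = t * (e * t⁻¹ * e⁻¹) from Subtype.ext hval.symm]
  -- a pair
  obtain ⟨a, b, hab, habT⟩ : ∃ a b, ∃ h : a ≠ b, X.d {a, b} (even_pair h) ∈ T := by
    obtain ⟨i, hi⟩ := hSne
    obtain ⟨j, hj⟩ : ∃ j, j ∉ S := by
      by_contra h
      push Not at h
      rw [Finset.eq_univ_iff_forall.2 h] at hSe
      exact absurd hSe (by decide)
    have hij : i ≠ j := fun h => hj (h ▸ hi)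
    obtain ⟨k, l, hkl, hki, hkj, hli, hlj, hside⟩ : ∃ k l : Fin 7, k ≠ l ∧ k ≠ i ∧ k ≠ j ∧ l ≠ i ∧ l ≠ j ∧
        (k ∈ S ↔ l ∈ S) := by
      obtain ⟨a, b, c, hab, hac, hbc, ha1, ha2, hb1, hb2, hc1, hc2⟩ : ∃ a b c : Fin 7, a ≠ b ∧ a ≠ c ∧ b ≠ c ∧
          a ≠ i ∧ a ≠ j ∧ b ≠ i ∧ b ≠ j ∧ c ≠ i ∧ c ≠ j :=
        (by decide +kernel : ∀ i j : Fin 7, ∃ a b c : Fin 7, a ≠ b ∧ a ≠ c ∧ b ≠ c ∧
          a ≠ i ∧ a ≠ j ∧ b ≠ i ∧ b ≠ j ∧ c ≠ i ∧ c ≠ j) i j
      by_cases h : (a ∈ S ↔ b ∈ S)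
      · exact ⟨a, b, hab, ha1, ha2, hb1, hb2, h⟩
      by_cases h' : (a ∈ S ↔ c ∈ S)
      · exact ⟨a, c, hac, ha1, ha2, hc1, hc2, h'⟩
      exact ⟨b, c, hbc, hb1, hb2, hc1, hc2, by tauto⟩
    obtain ⟨h1, hT1⟩ := hconj (g := ⟨_, X.dswap_mem hij hkl⟩) (X.mon_dswap hij hkl) hSe hST
    obtain ⟨h2, hT2⟩ := hmul h1 hSe hT1 hST
    have hS2 : symmDiff (S.image (Equiv.swap i j ∘ Equiv.swap k l)) S = {i, j} := by
      ext m
      have hinv : ∀ z, (Equiv.swap i j ∘ Equiv.swap k l) ((Equiv.swap i j ∘ Equiv.swap k l) z) = z := fun z => by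
        simp only [Function.comp_apply, Equiv.swap_apply_def]
        split_ifs <;> simp_all
      have hmem : m ∈ S.image (Equiv.swap i j ∘ Equiv.swap k l) ↔ (Equiv.swap i j ∘ Equiv.swap k l) m ∈ S := by
        rw [Finset.mem_image]
        exact ⟨fun ⟨z, hz, e⟩ => by rw [← e, hinv]; exact hz, fun hz => ⟨_, hz, hinv m⟩⟩
      rw [Finset.mem_symmDiff, hmem, Finset.mem_insert, Finset.mem_singleton, Function.comp_apply]
      rcases eq_or_ne m i with rfl | n1
      · rw [Equiv.swap_apply_of_ne_of_ne hki.symm hli.symm, Equiv.swap_apply_left]; simp [hi, hj]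
      rcases eq_or_ne m j with rfl | n2
      · rw [Equiv.swap_apply_of_ne_of_ne hkj.symm hlj.symm, Equiv.swap_apply_right]; simp [hi, hj]
      rcases eq_or_ne m k with rfl | h3
      · rw [Equiv.swap_apply_left, Equiv.swap_apply_of_ne_of_ne hli hlj]; simp [n1, n2, hside]
      rcases eq_or_ne m l with rfl | h4
      · rw [Equiv.swap_apply_right, Equiv.swap_apply_of_ne_of_ne hki hkj]; simp [n1, n2, hside]
      · rw [Equiv.swap_apply_of_ne_of_ne h3 h4, Equiv.swap_apply_of_ne_of_ne n1 n2]; simp [n1, n2]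
    refine ⟨i, j, hij, ?_⟩
    convert hT2 using 1
    exact Subtype.ext (congrArg (el X.f) hS2.symm)
  -- all pairs
  let pr : Fin 7 → Fin 7 → Prop := fun a b => ∃ h : a ≠ b, X.d {a, b} (even_pair h) ∈ T
  have hsymm : ∀ a b, pr a b → pr b a := by
    rintro a b ⟨h, hT⟩
    refine ⟨h.symm, ?_⟩
    convert hT using 1
    exact Subtype.ext (congrArg (el X.f) (Finset.pair_comm b a))
  have hstep : ∀ a b c, pr a b → c ≠ a → pr a c := by
    rintro a b c ⟨hab, hT⟩ hca
    rcases eq_or_ne c b with rfl | hcb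
    · exact ⟨hab, hT⟩
    obtain ⟨k, l, hkl, h1, h2, h3, h4, h5, h6⟩ : ∃ k l : Fin 7, k ≠ l ∧ k ≠ a ∧ k ≠ b ∧ k ≠ c ∧
        l ≠ a ∧ l ≠ b ∧ l ≠ c :=
      (by decide +kernel : ∀ a b c : Fin 7, ∃ k l : Fin 7, k ≠ l ∧ k ≠ a ∧ k ≠ b ∧ k ≠ c ∧
        l ≠ a ∧ l ≠ b ∧ l ≠ c) a b c
    obtain ⟨h, hT'⟩ := hconj (g := ⟨_, X.dswap_mem hcb.symm hkl⟩) (X.mon_dswap hcb.symm hkl) (even_pair hab) hT
    refine ⟨hca.symm, ?_⟩
    convert hT' using 1
    refine Subtype.ext (congrArg (el X.f) ?_)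
    rw [Finset.image_insert, Finset.image_singleton, Function.comp_apply, Function.comp_apply,
      Equiv.swap_apply_of_ne_of_ne h1.symm h4.symm, Equiv.swap_apply_of_ne_of_ne h2.symm h5.symm,
      Equiv.swap_apply_of_ne_of_ne hab hca.symm, Equiv.swap_apply_left]
  have hall : ∀ x y, x ≠ y → pr x y := by
    intro x y hxy
    rcases eq_or_ne x a with rfl | hxa
    · exact hstep _ b y ⟨hab, habT⟩ hxy.symm
    · exact hstep x a y (hsymm _ _ (hstep a b x ⟨hab, habT⟩ hxa)) hxy.symm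
  have hE : ∀ (n : ℕ) (A : Finset (Fin 7)), A.card ≤ n → ∀ hA : Even A.card, X.d A hA ∈ T := by
    intro n
    induction n with
    | zero =>
      intro A hn hA
      have : A = ∅ := Finset.card_eq_zero.1 (by omega)
      subst this
      rw [show X.d ∅ hA = 1 from Subtype.ext (el_empty X.two X.f)]
      exact one_mem T
    | succ n ih =>
      intro A hn hA
      rcases A.eq_empty_or_nonempty with rfl | ⟨i, hi⟩
      · rw [show X.d ∅ hA = 1 from Subtype.ext (el_empty X.two X.f)]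
        exact one_mem T
      obtain ⟨j, hj⟩ : ∃ j, j ∈ A.erase i := by
        refine Finset.card_pos.1 ?_
        have hpos := Finset.card_pos.2 ⟨i, hi⟩
        rw [Finset.card_erase_of_mem hi]
        obtain ⟨m, hm⟩ := hA
        omega
      have hji := (Finset.mem_erase.1 hj).1
      obtain ⟨hne', hT'⟩ := hall i j hji.symm
      have hsub : ({i, j} : Finset (Fin 7)) ⊆ A := by
        intro z hz
        rcases Finset.mem_insert.1 hz with rfl | hz
        · exact hi
        · rw [Finset.mem_singleton.1 hz]; exact Finset.mem_of_mem_erase hj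
      have hev : Even (A \ {i, j}).card := by
        rw [Finset.card_sdiff_of_subset hsub, Finset.card_pair hji.symm]
        have := Finset.card_le_card hsub
        rw [Finset.card_pair hji.symm] at this
        exact (Nat.even_sub this).2 (iff_of_true hA even_two)
      have hlt : (A \ {i, j}).card ≤ n := by
        rw [Finset.card_sdiff_of_subset hsub, Finset.card_pair hji.symm]
        omega
      obtain ⟨h, hm⟩ := hmul hev (even_pair hne') (ih _ hlt hev) hT'
      convert hm using 1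
      refine Subtype.ext (congrArg (el X.f) ?_)
      rw [Finset.ext_iff]
      intro z
      simp only [Finset.mem_symmDiff, Finset.mem_sdiff]
      have := @hsub z
      tauto
  -- representatives of the permutations
  have hτ : ∀ {i j k l : Fin 7} (hij : i ≠ j) (hkl : k ≠ l), i ≠ k → i ≠ l → j ≠ k → j ≠ l →
      ∀ m, Equiv.swap i j ∘ Equiv.swap k l = L m → ∃ x ∈ T, Mon X.f x.1 (L m) := by
    intro i j k l hij hkl h1 h2 h3 h4 m hm
    obtain ⟨g, hg⟩ := X.conj_dswap hij hkl h1 h2 h3 h4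
    have hmon : Mon X.f (swapRefl X.f i j * swapRefl X.f k l) (L m) := hm ▸ X.mon_dswap hij hkl
    exact ⟨⟨_, X.dswap_mem hij hkl⟩, hg ▸ hcl g _ (hE 2 _ (by simp) _) (hg.symm ▸ ⟨m, hmon⟩), hmon⟩
  have hm' : ∀ a b m, L a ∘ L b = L m → (∃ x ∈ T, Mon X.f x.1 (L a)) → (∃ x ∈ T, Mon X.f x.1 (L b)) →
      ∃ x ∈ T, Mon X.f x.1 (L m) := by
    rintro a b m hm ⟨x, hxT, hx⟩ ⟨y, hyT, hy⟩
    exact ⟨x * y, mul_mem hxT hyT, hm ▸ hx.mul hy⟩
  have hreal : ∀ k, ∃ x ∈ T, Mon X.f x.1 (L k) := by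
    have r1 := hτ (i := 0) (j := 1) (k := 2) (l := 3) (by decide) (by decide) (by decide) (by decide) (by decide)
      (by decide) 1 (by decide)
    have r2 := hτ (i := 0) (j := 2) (k := 1) (l := 3) (by decide) (by decide) (by decide) (by decide) (by decide)
      (by decide) 2 (by decide)
    have r4 := hτ (i := 0) (j := 1) (k := 4) (l := 5) (by decide) (by decide) (by decide) (by decide) (by decide)
      (by decide) 4 (by decide)
    have r6 := hm' 2 4 6 (by decide) r2 r4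
    intro k
    fin_cases k
    exacts [⟨1, one_mem T, by rw [show (⟨0, _⟩ : Fin 8) = 0 from rfl, L_zero]; exact mon_one⟩, r1, r2,
      hm' 1 2 3 (by decide) r1 r2, r4, hm' 1 4 5 (by decide) r1 r4, r6, hm' 1 6 7 (by decide) r1 r6]
  rintro x ⟨k, hk⟩
  obtain ⟨m, hm⟩ := exists_left_inv k
  obtain ⟨y, hyT, hy⟩ := hreal m
  have hyx : Mon X.f (y * x).1 id := hm ▸ hy.mul hk
  obtain ⟨A, hA, hAe⟩ := X.exists_d hyx
  have h1 : y * x ∈ T := hAe ▸ hE _ A le_rfl hA
  have := mul_mem (inv_mem hyT) h1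
  rwa [inv_mul_cancel_left] at this

include X in
/-- The properties for every Sylow subgroup. -/
theorem sylow_props (S : Sylow 2 (commutator (orthGroup Q))) :
    Subgroup.normalizer ((S : Subgroup (commutator (orthGroup Q))) : Set (commutator (orthGroup Q))) ≤ S ∧
    ∀ T ≤ (S : Subgroup (commutator (orthGroup Q))), T ≠ ⊥ →
      (∀ g x : commutator (orthGroup Q), x ∈ T → g * x * g⁻¹ ∈ (S : Subgroup (commutator (orthGroup Q))) →
        g * x * g⁻¹ ∈ T) → (S : Subgroup (commutator (orthGroup Q))) ≤ T := by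
  haveI := Fact.mk Nat.prime_two
  haveI := finite_orth (Q := Q)
  obtain ⟨R, hR⟩ := IsPGroup.exists_le_sylow X.isPGroup
  have hPR : X.P = R := by
    refine le_antisymm hR ?_
    by_contra hne
    haveI : Group.IsNilpotent ↥(R : Subgroup (commutator (orthGroup Q))) := R.2.isNilpotent
    have hlt : X.P.subgroupOf R < ⊤ := lt_top_iff_ne_top.2 fun h => hne (Subgroup.subgroupOf_eq_top.1 h)
    have hnc : NormalizerCondition ↥(R : Subgroup (commutator (orthGroup Q))) :=
      Group.normalizerCondition_of_isNilpotent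
    obtain ⟨n, hn, hn'⟩ := SetLike.exists_of_lt (hnc _ hlt)
    refine hn' (Subgroup.mem_subgroupOf.2 (X.normalizer_le (Subgroup.mem_normalizer_iff.2 fun x => ?_)))
    constructor
    · intro hx
      exact (Subgroup.mem_normalizer_iff.1 hn ⟨x, hR hx⟩).1 hx
    · intro hx
      have hxR : x ∈ (R : Subgroup (commutator (orthGroup Q))) := by
        have := mul_mem (mul_mem (inv_mem n.2) (hR hx)) n.2
        simpa [mul_assoc] using this
      exact (Subgroup.mem_normalizer_iff.1 hn ⟨x, hxR⟩).2 hx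
  obtain ⟨g, rfl⟩ := MulAction.exists_smul_eq (commutator (orthGroup Q)) R S
  have hmem : ∀ x, x ∈ (g • R : Sylow 2 (commutator (orthGroup Q))) ↔ g⁻¹ * x * g ∈ X.P := fun x => by
    rw [hPR]
    exact Subgroup.mem_pointwise_smul_iff_inv_smul_mem.trans (by simp [MulAut.smul_def, mul_assoc])
  refine ⟨fun n hn => ?_, fun T hT hne hcl x hx => ?_⟩
  · refine (hmem n).2 (X.normalizer_le (Subgroup.mem_normalizer_iff.2 fun x => ?_))
    have h := Subgroup.mem_normalizer_iff.1 hn (g * x * g⁻¹)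
    change g * x * g⁻¹ ∈ (g • R) ↔ n * (g * x * g⁻¹) * n⁻¹ ∈ (g • R) at h
    rw [hmem, hmem,
      show g⁻¹ * (g * x * g⁻¹) * g = x by group,
      show g⁻¹ * (n * (g * x * g⁻¹) * n⁻¹) * g = g⁻¹ * n * g * x * (g⁻¹ * n * g)⁻¹ by group] at h
    exact h
  · have := X.closed_eq (T := T.map (MulAut.conj g⁻¹).toMonoidHom) (fun y hy => by
      obtain ⟨z, hz, rfl⟩ := hy
      simpa [mul_assoc] using (hmem z).1 (hT hz))
      (fun h => hne ((Subgroup.map_eq_bot_iff_of_injective _ (MulAut.conj g⁻¹).injective).1 h))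
      (fun a y hy ha => by
        obtain ⟨z, hz, rfl⟩ := hy
        refine ⟨(g * a * g⁻¹) * z * (g * a * g⁻¹)⁻¹, hcl _ z hz ((hmem _).2 ?_), ?_⟩
        · convert ha using 1
          show _ = a * (g⁻¹ * z * g⁻¹⁻¹) * a⁻¹
          group
        · show g⁻¹ * (g * a * g⁻¹ * z * (g * a * g⁻¹)⁻¹) * g⁻¹⁻¹ = a * (g⁻¹ * z * g⁻¹⁻¹) * a⁻¹
          group) ((hmem x).1 hx)
    obtain ⟨z, hz, he⟩ := this
    have : z = x := by
      have he' : g⁻¹ * z * g⁻¹⁻¹ = g⁻¹ * x * g := he
      rw [inv_inv] at he'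
      exact mul_left_cancel (mul_right_cancel he')
    rwa [← this]

end Ctx

end CfsgLib.Fsys.OmegaSeven
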