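import Mathlib

/-!
Finite combinatorics of the eight block-preserving even permutations of seven points.
-/

set_option autoImplicit false

namespace CfsgLib.Fsys.OmegaSeven

/-- The permutations of the blocks `{0,1,2,3}, {4,5}, {6}` forming a dihedral group of order eight. -/
def L : Fin 8 → Fin 7 → Fin 7 :=
  ![![0, 1, 2, 3, 4, 5, 6], ![1, 0, 3, 2, 4, 5, 6], ![2, 3, 0, 1, 4, 5, 6], ![3, 2, 1, 0, 4, 5, 6],
    ![1, 0, 2, 3, 5, 4, 6], ![0, 1, 3, 2, 5, 4, 6], ![3, 2, 0, 1, 5, 4, 6], ![2, 3, 1, 0, 5, 4, 6]]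

/-- The transposition of the points `4` and `5`. -/
def s45 : Fin 7 → Fin 7 := ![0, 1, 2, 3, 5, 4, 6]

theorem L_zero : L 0 = id := by decide

theorem L_comp : ∀ k l, ∃ m, L k ∘ L l = L m := by decide

theorem L_injective : Function.Injective L := by decide

theorem L_pow_four : ∀ k, L k ∘ (L k ∘ (L k ∘ L k)) = id := by decide

/-- Subsets of seven points as numbers below `128`. -/
def inv (S : Fin 128) (p : Fin 7 → Fin 7) : Bool :=
  decide (∀ j : Fin 7, Nat.testBit S.val (p j).val = Nat.testBit S.val j.val)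

/-- The even subsets. -/
def isEven (S : Fin 128) : Bool :=
  decide (((Finset.univ : Finset (Fin 7)).filter fun j => Nat.testBit S.val j.val).card % 2 = 0)

theorem inv_one : ∀ k, k ≠ 0 → (Finset.univ.filter fun S => isEven S && inv S (L k)).card ≤ 16 := by
  decide +kernel

theorem inv_two : ∀ k l, k ≠ 0 → l ≠ 0 → k ≠ l → L k ∘ L l = L l ∘ L k → L k ∘ L k = id →
    L l ∘ L l = id → (Finset.univ.filter fun S => isEven S && inv S (L k) && inv S (L l)).card ≤ 8 := by
  decide +kernel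

theorem comm_card : ∀ k, k ≠ 0 → k ≠ 1 →
    (Finset.univ.filter fun l => L k ∘ L l = L l ∘ L k ∧ L l ∘ L l = id).card ≤ 4 := by decide

theorem square_eq : ∀ k, L k ∘ L k = id ∨ L k ∘ L k = L 1 := by decide

theorem square_six : L 6 ∘ L 6 = L 1 := by decide

theorem fixed_six : ∀ j, (∀ k, L k j = j) → j = 6 := by decide

theorem L_six : ∀ k, L k 6 = 6 := by decide

theorem two_images : ∀ j j', (∀ k, L k j = j ∨ L k j = j') → j = 4 ∨ j = 5 ∨ j = 6 := by decide

theorem exists_left_inv : ∀ k, ∃ m, L m ∘ L k = id := by decide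

theorem exists_code : ∀ s : Fin 7 → Bool, ∃ S : Fin 128, ∀ j : Fin 7, Nat.testBit S.val j.val = s j := by
  decide +kernel

theorem card_even_subsets :
    ((Finset.univ : Finset (Finset (Fin 7))).filter fun S => S.card % 2 = 0).card = 64 := by
  decide +kernel

/-- The candidates for a permutation commuting with `L 1` and fixing the blocks. -/
def cand (a b c : Fin 7) : Fin 7 → Fin 7 := ![a, L 1 a, b, L 1 b, c, if c = 4 then 5 else 4, 6]

theorem cand_mem : ∀ a b c : Fin 7, (a : ℕ) < 4 → (b : ℕ) < 4 → (c = 4 ∨ c = 5) → b ≠ a → b ≠ L 1 a →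
    ∃ k, cand a b c = L k ∨ cand a b c ∘ s45 = L k := by decide +kernel

theorem cases_six : ∀ j : Fin 7, (j : ℕ) < 4 ∨ j = 4 ∨ j = 5 ∨ j = 6 := by decide

theorem four_or_five : ∀ c d : Fin 7, (c = 4 ∨ c = 5) → (d = 4 ∨ d = 5) → d ≠ c →
    d = if c = 4 then 5 else 4 := by decide

/-- Counting: a commuting family of involutory permutations with invariant remainders, determined by both,
is trivial when it has sixty-four members. -/
theorem idx_zero (idx : Finset (Fin 7) → Fin 8) (rest : Finset (Fin 7) → Finset (Fin 7))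
    (heven : ∀ T : Finset (Fin 7), T.card % 2 = 0 → Even (rest T).card)
    (hcom : ∀ T U : Finset (Fin 7), T.card % 2 = 0 → U.card % 2 = 0 →
      L (idx T) ∘ L (idx U) = L (idx U) ∘ L (idx T) ∧ L (idx T) ∘ L (idx T) = id)
    (hinv : ∀ T U : Finset (Fin 7), T.card % 2 = 0 → U.card % 2 = 0 →
      ∀ j, (L (idx U) j ∈ rest T ↔ j ∈ rest T))
    (hinj : ∀ T U : Finset (Fin 7), T.card % 2 = 0 → U.card % 2 = 0 → idx T = idx U → rest T = rest U → T = U)
    (S : Finset (Fin 7)) (hS : S.card % 2 = 0) : idx S = 0 := by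
  classical
  by_contra hS0
  obtain ⟨Ev, hEvmem, hE⟩ : ∃ Ev : Finset (Finset (Fin 7)), (∀ T, T ∈ Ev ↔ T.card % 2 = 0) ∧ Ev.card = 64 :=
    ⟨_, fun T => by rw [Finset.mem_filter]; simp only [Finset.mem_univ, true_and], card_even_subsets⟩
  have hEv : ∀ T, T ∈ Ev → T.card % 2 = 0 := fun T hT => (hEvmem T).1 hT
  let code : Finset (Fin 7) → Fin 128 := fun U => (exists_code fun j => decide (j ∈ U)).choose
  have hcode : ∀ U j, Nat.testBit (code U).val (j : Fin 7).val = decide (j ∈ U) := fun U =>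
    (exists_code fun j => decide (j ∈ U)).choose_spec
  obtain ⟨Inv, hInv⟩ : ∃ Inv : Finset (Fin 128), ∀ U, U ∈ Inv ↔
      isEven U = true ∧ ∀ l ∈ Ev.image idx, inv U (L l) = true :=
    ⟨Finset.univ.filter fun U => isEven U = true ∧ ∀ l ∈ Ev.image idx, inv U (L l) = true,
      fun U => by rw [Finset.mem_filter]; simp only [Finset.mem_univ, true_and]⟩
  have hcard : 64 ≤ (Ev.image idx).card * Inv.card := by
    rw [← Finset.card_product, ← hE]
    refine Finset.card_le_card_of_injOn (fun T => (idx T, code (rest T))) (fun T hT => ?_) ?_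
    · refine Finset.mem_coe.2 (Finset.mem_product.2 ⟨Finset.mem_image_of_mem idx hT,
        (hInv _).2 ⟨?_, fun l hl => ?_⟩⟩)
      · have he := heven T (hEv T hT)
        rw [Nat.even_iff] at he
        simp only [isEven, hcode, decide_eq_true_eq, Finset.filter_univ_mem, he]
      · obtain ⟨U, hU, rfl⟩ := Finset.mem_image.1 hl
        simp only [inv, hcode, decide_eq_decide, decide_eq_true_eq]
        exact hinv T U (hEv T hT) (hEv U hU)
    · intro T hT U hU h
      obtain ⟨h1, h2⟩ := Prod.ext_iff.1 h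
      change code (rest T) = code (rest U) at h2
      refine hinj T U (hEv T hT) (hEv U hU) h1 (Finset.ext fun j => ?_)
      simpa [hcode] using congrArg (fun z : Fin 128 => Nat.testBit z.val j.val) h2
  have hI : ∀ k ∈ Ev.image idx, ∀ l ∈ Ev.image idx, L k ∘ L l = L l ∘ L k ∧ L k ∘ L k = id := by
    intro k hk l hl
    obtain ⟨T, hT, rfl⟩ := Finset.mem_image.1 hk
    obtain ⟨U, hU, rfl⟩ := Finset.mem_image.1 hl
    exact hcom T U (hEv T hT) (hEv U hU)
  have hkI : idx S ∈ Ev.image idx := Finset.mem_image_of_mem idx ((hEvmem S).2 hS)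
  have hb1 : ∀ l ∈ Ev.image idx, l ≠ 0 → Inv.card ≤ 16 := fun l hl hl0 =>
    (Finset.card_le_card fun U hU => Finset.mem_filter.2 ⟨Finset.mem_univ _, by
      obtain ⟨he, hi⟩ := (hInv U).1 hU
      simp [he, hi l hl]⟩).trans (inv_one l hl0)
  by_cases h01 : ∀ l ∈ Ev.image idx, l = 0 ∨ l = 1
  · have h2 : (Ev.image idx).card ≤ 2 := (Finset.card_le_card fun l hl => by
      simpa using h01 l hl).trans (Finset.card_le_two (a := (0 : Fin 8)) (b := 1))
    have := Nat.mul_le_mul h2 (hb1 _ hkI hS0)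
    omega
  push Not at h01
  obtain ⟨l, hl, hl0, hl1⟩ := h01
  by_cases hex : ∃ m ∈ Ev.image idx, m ≠ 0 ∧ m ≠ l
  · obtain ⟨m, hm, hm0, hml⟩ := hex
    have h4 : (Ev.image idx).card ≤ 4 := (Finset.card_le_card fun x hx => Finset.mem_filter.2
      ⟨Finset.mem_univ _, (hI l hl x hx).1, (hI x hx x hx).2⟩).trans (comm_card l hl0 hl1)
    have h8 : Inv.card ≤ 8 := (Finset.card_le_card fun U hU => Finset.mem_filter.2 ⟨Finset.mem_univ _, by
      obtain ⟨he, hi⟩ := (hInv U).1 hU
      simp [he, hi l hl, hi m hm]⟩).trans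
      (inv_two l m hl0 hm0 (Ne.symm hml) (hI l hl m hm).1 (hI l hl m hm).2 (hI m hm m hm).2)
    have := Nat.mul_le_mul h4 h8
    omega
  push Not at hex
  have h2 : (Ev.image idx).card ≤ 2 := (Finset.card_le_card fun m hm => by
    simpa using (em (m = 0)).imp id (hex m hm)).trans (Finset.card_le_two (a := (0 : Fin 8)) (b := l))
  have := Nat.mul_le_mul h2 (hb1 l hl hl0)
  omega

end CfsgLib.Fsys.OmegaSeven
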