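import Cfsg.Agent.Lib.KnownA.OrthTwoRankStd

/-!
Monomial isometries with respect to an orthogonal frame of equal norms.
-/

set_option autoImplicit false
set_option linter.unusedSectionVars false

namespace CfsgLib.Fsys.OmegaSeven

open Module QuadraticMap CfsgLib.Orth CfsgLib.OrthTwoRank

variable {F V : Type*} [Field F] [AddCommGroup V] [Module F V] [FiniteDimensional F V]
  {Q : QuadraticForm F V} {D : ℕ}

/-- An isometry sending every frame vector to plus or minus the frame vector of the image index. -/
def Mon (f : Frame Q D) (g : orthGroup Q) (p : Fin D → Fin D) : Prop :=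
  ∀ i, g.1 (f.b i) = f.b (p i) ∨ g.1 (f.b i) = -f.b (p i)

variable (h2 : (2 : F) ≠ 0) {f : Frame Q D}

theorem mon_one : Mon f 1 id := fun _ => Or.inl rfl

theorem Mon.mul {g h : orthGroup Q} {p q : Fin D → Fin D} (hg : Mon f g p) (hh : Mon f h q) :
    Mon f (g * h) (p ∘ q) := fun i => by
  show g.1 (h.1 (f.b i)) = _ ∨ g.1 (h.1 (f.b i)) = _
  rcases hh i with e | e <;> rw [e] <;> rcases hg (q i) with e' | e' <;>
    simp only [map_neg, e', neg_neg, Function.comp_apply, true_or, or_true]

theorem eq_of_pm {i j : Fin D} (h : f.b i = f.b j ∨ f.b i = -f.b j) : i = j := by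
  classical
  by_contra hij
  have hv : f.b.repr (f.b i) i = 0 := by
    rcases h with h | h <;> rw [h] <;> simp [Finsupp.single_eq_of_ne hij]
  simp at hv

theorem Mon.unique {g : orthGroup Q} {p q : Fin D → Fin D} (hp : Mon f g p) (hq : Mon f g q) : p = q := by
  funext i
  refine eq_of_pm (f := f) ?_
  rcases hp i with e | e <;> rcases hq i with e' | e' <;> rw [e] at e'
  · exact Or.inl e'
  · exact Or.inr e'
  · exact Or.inr (neg_eq_iff_eq_neg.1 e')
  · exact Or.inl (neg_inj.1 e')

theorem ext_frame {g h : orthGroup Q} (e : ∀ i, g.1 (f.b i) = h.1 (f.b i)) : g = h :=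
  Subtype.ext (LinearEquiv.toLinearMap_injective (f.b.ext e))

include h2 in
theorem mon_el (f : Frame Q D) (S : Finset (Fin D)) : Mon f (el f S) id := fun i => by
  rw [el_apply h2]
  split_ifs <;> simp

include h2 in
theorem el_mul_el (f : Frame Q D) (S T : Finset (Fin D)) : el f S * el f T = el f (symmDiff S T) := by
  refine ext_frame (f := f) fun i => ?_
  show (el f S).1 ((el f T).1 (f.b i)) = _
  rw [el_apply h2, el_apply h2]
  by_cases hS : i ∈ S <;> by_cases hT : i ∈ T <;> simp [hS, hT, Finset.mem_symmDiff, el_apply h2]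

include h2 in
theorem el_sq (f : Frame Q D) (S : Finset (Fin D)) : el f S * el f S = 1 := by
  rw [el_mul_el h2, symmDiff_self]
  exact ext_frame (f := f) fun i => by rw [el_apply h2]; simp

include h2 in
theorem el_empty (f : Frame Q D) : el f (∅ : Finset (Fin D)) = 1 :=
  ext_frame (f := f) fun i => by rw [el_apply h2]; simp

include h2 in
/-- Conjugation moves the set of negated vectors by the permutation. -/
theorem Mon.conj_el {g : orthGroup Q} {p : Fin D → Fin D} (hg : Mon f g p) (hp : Function.Injective p)
    (S : Finset (Fin D)) : g * el f S * g⁻¹ = el f (S.image p) := by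
  rw [mul_inv_eq_iff_eq_mul]
  refine ext_frame (f := f) fun i => ?_
  show g.1 ((el f S).1 (f.b i)) = (el f (S.image p)).1 (g.1 (f.b i))
  have hmem : p i ∈ S.image p ↔ i ∈ S := hp.mem_finset_image
  rw [el_apply h2]
  rcases hg i with e | e <;> rw [e] <;> by_cases hS : i ∈ S <;> simp [hS, hmem, e, el_apply h2]

include h2 in
/-- A set fixed by a monomial element commuting with the diagonal element. -/
theorem Mon.mem_iff_of_commute {g : orthGroup Q} {p : Fin D → Fin D} (hg : Mon f g p)
    (hp : Function.Injective p) {S : Finset (Fin D)} (h : g * el f S = el f S * g) (j : Fin D) :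
    p j ∈ S ↔ j ∈ S := by
  have h1 : el f (S.image p) = el f S := by rw [← hg.conj_el h2 hp, h, mul_inv_cancel_right]
  have h3 := el_injective h2 f h1
  conv_lhs => rw [← h3]
  exact hp.mem_finset_image

/-- The reflection in the difference of two frame vectors. -/
noncomputable def swapRefl (f : Frame Q D) (i j : Fin D) : orthGroup Q := refl Q (f.b i - f.b j)

variable {c : F} (hc : ∀ i, Q (f.b i) = c)
include hc

theorem quad_diff {i j : Fin D} (h : i ≠ j) : Q (f.b i - f.b j) = 2 * c := by
  rw [sub_eq_add_neg, quad_add', QuadraticMap.map_neg, polar_neg_right, f.orth i j h, hc, hc]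
  ring

include h2

theorem c_ne_zero [NeZero D] : c ≠ 0 := hc 0 ▸ f.aniso 0

theorem mon_swap {i j : Fin D} (h : i ≠ j) : Mon f (swapRefl f i j) (Equiv.swap i j) := fun l => by
  have hc0 : c ≠ 0 := hc i ▸ f.aniso i
  left
  rw [swapRefl, refl_apply, quad_diff hc h, polar_sub_left]
  rcases eq_or_ne l i with rfl | hli
  · rw [polar_self', hc, f.orth j l h.symm, Equiv.swap_apply_left, sub_zero, inv_mul_cancel₀
      (mul_ne_zero h2 hc0), one_smul, sub_sub_cancel]
  rcases eq_or_ne l j with rfl | hlj
  · rw [polar_self', hc, f.orth i l h, Equiv.swap_apply_right, zero_sub, mul_neg, inv_mul_cancel₀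
      (mul_ne_zero h2 hc0), neg_smul, one_smul, sub_neg_eq_add, add_sub_cancel]
  · rw [f.orth i l hli.symm, f.orth j l hlj.symm, sub_zero, mul_zero, zero_smul, sub_zero,
      Equiv.swap_apply_of_ne_of_ne hli hlj]

omit h2 hc in
/-- The product of two reflections in orthogonal vectors. -/
theorem refl_refl_apply {u v : V} (huv : polar Q u v = 0) (z : V) :
    (refl Q u * refl Q v).1 z =
      z - ((Q u)⁻¹ * polar Q u z) • u - ((Q v)⁻¹ * polar Q v z) • v := by
  show (refl Q u).1 ((refl Q v).1 z) = _
  rw [refl_apply, refl_apply, polar_sub_right, polar_smul_r', huv, mul_zero, sub_zero]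
  abel

end CfsgLib.Fsys.OmegaSeven
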