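import Cfsg.Agent.Lib.FusionSystem.OmegaSeven.Closed
import Cfsg.Agent.Lib.FusionSystem.GroupSimpleLocal
import Cfsg.Agent.Lib.FusionSystem.Group

/-!
Simplicity of the 2-fusion system of the seven-dimensional orthogonal group over a field in which two
is a non-square, and triviality of the outer automizer of its Sylow 2-subgroup.
-/

set_option autoImplicit false
set_option linter.unusedSectionVars false
set_option linter.style.haveILetI false

namespace CfsgLib.Fsys.OmegaSeven

open Module QuadraticMap CfsgLib.Orth CfsgLib.OrthTwoRank Cfsg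

variable {F V : Type*} [Field F] [Fintype F] [AddCommGroup V] [Module F V] [FiniteDimensional F V]
  {Q : QuadraticForm F V}

/-- A frame all of whose norms agree. -/
theorem exists_equal_frame (hQ : (QuadraticMap.polarBilin Q).Nondegenerate) (h2 : (2 : F) ≠ 0)
    (hD : finrank F V = 7) : ∃ (f : Frame Q 7) (c : F), ∀ i, Q (f.b i) = c := by
  classical
  obtain ⟨f, c, hc0, hc⟩ : ∃ (f : Frame Q 7) (c : F), c ≠ 0 ∧ ∀ i, IsSquare (c * Q (f.b i)) := by
    obtain ⟨f, hf1, hf⟩ := exists_frame_one hQ h2 (k := 6) hD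
    set δ := Q (f.b (Fin.last 6)) with hδd
    have hδ : δ ≠ 0 := f.aniso _
    by_cases hsq : IsSquare δ
    · refine ⟨f, 1, one_ne_zero, fun i => ?_⟩
      rw [one_mul]
      by_cases hi : i = Fin.last 6
      · rw [hi]; exact hsq
      · rw [hf1 i hi]; exact IsSquare.one
    have hQ' : (QuadraticMap.polarBilin (δ • Q)).Nondegenerate := nondegenerate_of_left fun v hv =>
      eq_zero_of_polar hQ fun w => by
        have h := hv w
        rw [QuadraticMap.coeFn_smul, QuadraticMap.polar_smul, smul_eq_mul, mul_eq_zero] at h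
        exact h.resolve_left hδ
    obtain ⟨g, hg1, hg⟩ := exists_frame_one hQ' h2 (k := 6) hD
    let g' : Frame Q 7 := ⟨g.b, fun i j h => by
        have := g.orth i j h
        rw [QuadraticMap.coeFn_smul, QuadraticMap.polar_smul, smul_eq_mul, mul_eq_zero] at this
        exact this.resolve_left hδ,
      fun i h => g.aniso i (by rw [QuadraticMap.smul_apply, h, smul_zero])⟩
    simp only [QuadraticMap.smul_apply, smul_eq_mul] at hg hg1
    refine ⟨g', δ, hδ, fun i => ?_⟩
    by_cases hi : i = Fin.last 6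
    · have hd := frame_disc h2 f g'
      rw [hf] at hd
      rw [Finset.prod_mul_distrib, Finset.prod_const, Finset.card_univ, Fintype.card_fin] at hg
      show IsSquare (δ * Q (g.b i))
      rw [hi, ← hg, show δ ^ 7 * ∏ j, Q (g.b j) = (δ ^ 3 * δ ^ 3) * (δ * ∏ j, Q (g.b j)) by ring]
      exact (IsSquare.mul_self _).mul hd
    · show IsSquare (δ * Q (g.b i))
      rw [hg1 i hi]; exact IsSquare.one
  choose r hr using hc
  have hr0 : ∀ i, r i ≠ 0 := fun i h => mul_ne_zero hc0 (f.aniso i) (by rw [hr i, h, zero_mul])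
  let w : Fin 7 → Fˣ := fun i => Units.mk0 (c / r i) (div_ne_zero hc0 (hr0 i))
  have hb : ∀ i, f.b.unitsSMul w i = (c / r i) • f.b i := fun i => by rw [Basis.unitsSMul_apply]; rfl
  refine ⟨⟨f.b.unitsSMul w, fun i j h => ?_, fun i => ?_⟩, c, fun i => ?_⟩
  · rw [hb, hb, polar_smul_l', polar_smul_r', f.orth i j h, mul_zero, mul_zero]
  · rw [hb, quad_smul']
    exact mul_ne_zero (mul_self_ne_zero.2 (div_ne_zero hc0 (hr0 i))) (f.aniso i)
  · show Q (f.b.unitsSMul w i) = c
    rw [hb, quad_smul']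
    field_simp [hr0 i]
    linear_combination hr i

theorem main {ι : Type} [Fintype ι] [DecidableEq ι] {Qf : (ι → F) → F} (Qq : QuadraticForm F (ι → F))
    (hQf : ∀ v, Qf v = Qq v) (X : Ctx Qq) (S : Sylow 2 ↥(Cfsg.Omega F Qf)) :
    (Cfsg.groupFusionSystem (S : Subgroup ↥(Cfsg.Omega F Qf))).autGroup (S : Subgroup ↥(Cfsg.Omega F Qf)) =
        Cfsg.Inn ↥(S : Subgroup ↥(Cfsg.Omega F Qf)) ∧
      (∀ T : Subgroup ↥(Cfsg.Omega F Qf),
        (Cfsg.groupFusionSystem (S : Subgroup ↥(Cfsg.Omega F Qf))).StronglyClosed T →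
          T = ⊥ ∨ T = (S : Subgroup ↥(Cfsg.Omega F Qf))) ∧
      (Cfsg.groupFusionSystem (S : Subgroup ↥(Cfsg.Omega F Qf))).IsSimple 2 := by
  classical
  haveI := Fact.mk Nat.prime_two
  haveI := Ctx.finite_orth (Q := Qq)
  let e : ↥(Cfsg.Omega F Qf) ≃* commutator (orthGroup Qq) :=
    { toFun := fun g => ⟨toOrth Qq hQf g.1, (mem_Omega_iff Qq hQf g.1).1 g.2⟩
      invFun := fun h => ⟨(toOrth Qq hQf).symm h.1, (mem_Omega_iff Qq hQf _).2 (by
        rw [MulEquiv.apply_symm_apply]; exact h.2)⟩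
      left_inv := fun g => Subtype.ext ((toOrth Qq hQf).symm_apply_apply g.1)
      right_inv := fun h => Subtype.ext ((toOrth Qq hQf).apply_symm_apply h.1)
      map_mul' := fun g g' => Subtype.ext (map_mul (toOrth Qq hQf) g.1 g'.1) }
  haveI : Finite ↥(Cfsg.Omega F Qf) := Finite.of_equiv _ e.symm.toEquiv
  let S' : Sylow 2 (commutator (orthGroup Qq)) := S.mapSurjective (f := e.toMonoidHom) e.surjective
  have hmem : ∀ x, e x ∈ (S' : Subgroup (commutator (orthGroup Qq))) ↔ x ∈ (S : Subgroup ↥(Cfsg.Omega F Qf)) :=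
    fun x => by
      show e.toMonoidHom x ∈ Subgroup.map e.toMonoidHom (S : Subgroup ↥(Cfsg.Omega F Qf)) ↔ _
      exact Subgroup.mem_map_iff_mem e.injective
  obtain ⟨hN, hC⟩ := X.sylow_props S'
  have hnorm : Subgroup.normalizer ((S : Subgroup ↥(Cfsg.Omega F Qf)) : Set ↥(Cfsg.Omega F Qf)) ≤ S := by
    intro n hn
    refine (hmem n).1 (hN (Subgroup.mem_normalizer_iff.2 fun y => ?_))
    obtain ⟨x, rfl⟩ := e.surjective y
    rw [← map_inv, ← map_mul, ← map_mul]
    show e x ∈ (S' : Subgroup _) ↔ e (n * x * n⁻¹) ∈ (S' : Subgroup _)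
    rw [hmem, hmem]
    exact Subgroup.mem_normalizer_iff.1 hn x
  have hclosed : ∀ T ≤ (S : Subgroup ↥(Cfsg.Omega F Qf)), T ≠ ⊥ →
      (∀ g x : ↥(Cfsg.Omega F Qf), x ∈ T → g * x * g⁻¹ ∈ (S : Subgroup ↥(Cfsg.Omega F Qf)) → g * x * g⁻¹ ∈ T) →
      (S : Subgroup ↥(Cfsg.Omega F Qf)) ≤ T := by
    intro T hT hne hcl x hx
    have := hC (T.map e.toMonoidHom) (fun y hy => by
        obtain ⟨z, hz, rfl⟩ := hy; exact (hmem z).2 (hT hz))
      (fun h => hne ((Subgroup.map_eq_bot_iff_of_injective _ e.injective).1 h))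
      (fun g y hy hg => by
        obtain ⟨z, hz, rfl⟩ := hy
        obtain ⟨a, rfl⟩ := e.surjective g
        change e a * e z * (e a)⁻¹ ∈ (S' : Subgroup _) at hg
        rw [← map_inv, ← map_mul, ← map_mul, hmem] at hg
        exact ⟨a * z * a⁻¹, hcl a z hz hg, by simp⟩) ((hmem x).2 hx)
    exact (Subgroup.mem_map_iff_mem (f := e.toMonoidHom) e.injective).1 this
  refine ⟨?_, fun T hT => ?_, ?_⟩
  · rw [group_autGroup le_rfl, autInducedBy_top, Cfsg.Inn]
    refine le_antisymm ?_ ?_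
    · rintro _ ⟨⟨n, hn⟩, rfl⟩
      exact ⟨⟨n, hnorm hn⟩, MulEquiv.ext fun x => Subtype.ext rfl⟩
    · rintro _ ⟨s, rfl⟩
      exact ⟨⟨s.1, Subgroup.le_normalizer s.2⟩, MulEquiv.ext fun x => Subtype.ext rfl⟩
  · refine or_iff_not_imp_left.2 fun hne => le_antisymm hT.1 (hclosed T hT.1 hne fun g x hx hgx => ?_)
    obtain ⟨φ, hφ, he⟩ := fn_group_conj (S := (S : Subgroup ↥(Cfsg.Omega F Qf))) (P := Subgroup.zpowers x)
      (Subgroup.zpowers_le.2 (hT.1 hx)) g (fun y hy => by
        obtain ⟨i, rfl⟩ := Subgroup.mem_zpowers_iff.1 hy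
        rw [← conj_zpow]
        exact zpow_mem hgx i)
    have h := hT.2 (Subgroup.zpowers x) (Subgroup.zpowers_le.2 hx) φ hφ ⟨x, Subgroup.mem_zpowers x⟩
    rwa [he ⟨x, Subgroup.mem_zpowers x⟩] at h
  · refine GroupSimpleLocal.isSimple S (fun hbot => ?_) hclosed
      (hnorm.trans fun y hy => Subgroup.subset_closure (Or.inl hy))
    -- the diagonal element of a pair is a non-trivial involution
    have hbot' : (S' : Subgroup (commutator (orthGroup Qq))) = ⊥ := by
      show Subgroup.map e.toMonoidHom (S : Subgroup ↥(Cfsg.Omega F Qf)) = ⊥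
      rw [hbot, Subgroup.map_bot]
    obtain ⟨R, hR⟩ := IsPGroup.exists_le_sylow X.isPGroup
    obtain ⟨g, hg⟩ := MulAction.exists_smul_eq (commutator (orthGroup Qq)) R S'
    have hR1 : (R : Subgroup (commutator (orthGroup Qq))) = ⊥ := by
      have h1 : Nat.card (R : Subgroup (commutator (orthGroup Qq))) = 1 := by
        rw [Nat.card_congr (Sylow.equiv R S').toEquiv, hbot', Subgroup.card_bot]
      exact Subgroup.card_eq_one.1 h1
    have hd := hR (X.d_mem (Ctx.even_pair (show (0 : Fin 7) ≠ 1 by decide)))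
    rw [hR1, Subgroup.mem_bot] at hd
    have h01 := congrArg (fun z : commutator (orthGroup Qq) => z.1) hd
    exact absurd (el_injective X.two X.f (h01.trans (el_empty X.two X.f).symm)) (by decide)

end CfsgLib.Fsys.OmegaSeven
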