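import Cfsg.Agent.Lib.FusionSystem.OmegaSeven.Comb
import Cfsg.Agent.Lib.FusionSystem.OmegaSeven.Monomial

/-!
The Sylow 2-subgroup of the commutator subgroup of a seven-dimensional orthogonal group when two is a
non-square: the diagonal group of order 64 extended by a dihedral group of order eight, its self-normalization,
and the fact that no proper non-trivial subgroup of it is strongly closed.
-/

set_option autoImplicit false
set_option linter.unusedSectionVars false

namespace CfsgLib.Fsys.OmegaSeven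

open Module QuadraticMap CfsgLib.Orth CfsgLib.OrthTwoRank

variable {F V : Type*} [Field F] [Fintype F] [AddCommGroup V] [Module F V] [FiniteDimensional F V]

/-- The hypotheses: a frame of seven vectors of equal norm, with two a non-square. -/
structure Ctx (Q : QuadraticForm F V) where
  nd : (QuadraticMap.polarBilin Q).Nondegenerate
  two : (2 : F) ≠ 0
  f : Frame Q 7
  c : F
  norm : ∀ i, Q (f.b i) = c
  nsq : ¬ IsSquare (2 : F)

variable {Q : QuadraticForm F V}

namespace Ctx

variable (X : Ctx Q)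

theorem finite_orth : Finite (orthGroup Q) := by
  have : Finite V := Module.finite_of_finite F
  have : Finite (V ≃ₗ[F] V) := Finite.of_injective (fun g => (g : V → V)) DFunLike.coe_injective
  infer_instance

theorem c_ne : X.c ≠ 0 := X.norm 0 ▸ X.f.aniso 0

theorem el_mem {S : Finset (Fin 7)} (hS : Even S.card) : el X.f S ∈ commutator (orthGroup Q) := by
  refine (el_mem_iff X.nd X.two X.f S).2 ⟨hS, ?_⟩
  rw [Finset.prod_congr rfl fun i _ => X.norm i, Finset.prod_const]
  exact hS.isSquare_pow _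

theorem even_of_mem {S : Finset (Fin 7)} (h : el X.f S ∈ commutator (orthGroup Q)) : Even S.card :=
  ((el_mem_iff X.nd X.two X.f S).1 h).1

theorem exists_el {g : orthGroup Q} (hg : Mon X.f g id) : ∃ S, el X.f S = g :=
  negSet_eq X.nd X.two X.f g hg

/-- The product of two transpositions lies in the commutator subgroup. -/
theorem dswap_mem {i j k l : Fin 7} (hij : i ≠ j) (hkl : k ≠ l) :
    swapRefl X.f i j * swapRefl X.f k l ∈ commutator (orthGroup Q) := by
  have : Finite V := Module.finite_of_finite F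
  have hn : (2 : F) * X.c ≠ 0 := mul_ne_zero X.two X.c_ne
  have h := (prod_refl_mem_commutator_iff X.nd X.two [X.f.b i - X.f.b j, X.f.b k - X.f.b l] (by
    intro a ha
    rcases List.mem_pair.1 ha with rfl | rfl <;> rwa [quad_diff X.norm (by assumption)])).2
    ⟨by simp, by simp [quad_diff X.norm hij, quad_diff X.norm hkl]⟩
  simpa [swapRefl] using h

theorem mon_dswap {i j k l : Fin 7} (hij : i ≠ j) (hkl : k ≠ l) :
    Mon X.f (swapRefl X.f i j * swapRefl X.f k l) (Equiv.swap i j ∘ Equiv.swap k l) :=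
  (mon_swap X.two X.norm hij).mul (mon_swap X.two X.norm hkl)

/-- A single transposition times a diagonal element never lies in the commutator subgroup. -/
theorem not_swap {g : orthGroup Q} (hg : g ∈ commutator (orthGroup Q)) {i j : Fin 7} (hij : i ≠ j)
    (h : Mon X.f g (Equiv.swap i j)) : False := by
  have : Finite V := Module.finite_of_finite F
  have h1 : Mon X.f (g * swapRefl X.f i j) id := by
    have := h.mul (mon_swap X.two X.norm hij)
    rwa [show ((Equiv.swap i j : Fin 7 → Fin 7) ∘ Equiv.swap i j) = id from funext fun x =>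
      Equiv.swap_apply_self i j x] at this
  obtain ⟨S, hS⟩ := X.exists_el h1
  have hg' : el X.f S * swapRefl X.f i j = g := by
    rw [hS, mul_assoc, swapRefl, refl_mul_self, mul_one]
  rw [← hg'] at hg
  have hne : ∀ a ∈ (S.toList.map fun i => X.f.b i) ++ [X.f.b i - X.f.b j], Q a ≠ 0 := by
    intro a ha
    rcases List.mem_append.1 ha with ha | ha
    · obtain ⟨l, -, rfl⟩ := List.mem_map.1 ha
      exact X.f.aniso l
    · rw [List.mem_singleton.1 ha, quad_diff X.norm hij]
      exact mul_ne_zero X.two X.c_ne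
  have h2' := (prod_refl_mem_commutator_iff X.nd X.two _ hne).1 (by
    simpa [el, swapRefl, List.map_append, List.prod_append, List.map_map, Function.comp_def] using hg)
  obtain ⟨hlen, hsq⟩ := h2'
  simp only [List.length_append, List.length_map, Finset.length_toList, List.length_cons, List.length_nil,
    List.map_append, List.map_cons, List.map_nil, List.prod_append, List.prod_cons, List.prod_nil, mul_one,
    List.map_map, Function.comp_def, X.norm, quad_diff X.norm hij, List.map_const', List.prod_replicate] at hlen hsq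
  obtain ⟨r, hr⟩ := hsq
  obtain ⟨m, hm⟩ := hlen
  obtain ⟨t, ht⟩ : ∃ t, S.card + 1 = 2 * t := ⟨m, by omega⟩
  refine X.nsq ⟨r / X.c ^ t, ?_⟩
  rw [div_mul_div_comm, ← hr, eq_div_iff (mul_ne_zero (pow_ne_zero _ X.c_ne) (pow_ne_zero _ X.c_ne)), ← pow_add,
    ← two_mul, ← ht, pow_succ]
  ring

/-- The monomial group over the eight permutations. -/
def P : Subgroup (commutator (orthGroup Q)) where
  carrier := {g | ∃ k, Mon X.f g.1 (L k)}
  one_mem' := ⟨0, by rw [L_zero]; exact mon_one⟩
  mul_mem' := by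
    rintro a b ⟨k, hk⟩ ⟨l, hl⟩
    obtain ⟨m, hm⟩ := L_comp k l
    exact ⟨m, hm ▸ hk.mul hl⟩
  inv_mem' := by
    rintro a ⟨k, hk⟩
    obtain ⟨S, hS⟩ := X.exists_el (L_pow_four k ▸ hk.mul (hk.mul (hk.mul hk)))
    have h8 : a.1⁻¹ = a.1 * (a.1 * (a.1 * el X.f S)) := by
      refine inv_eq_of_mul_eq_one_right ?_
      calc a.1 * (a.1 * (a.1 * (a.1 * el X.f S))) = a.1 * (a.1 * (a.1 * a.1)) * el X.f S := by
            simp only [mul_assoc]
        _ = 1 := by rw [← hS, el_sq X.two]
    obtain ⟨m, hm⟩ := L_comp k k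
    obtain ⟨m', hm'⟩ := L_comp k m
    refine ⟨m', ?_⟩
    show Mon X.f a.1⁻¹ (L m')
    rw [h8, ← hm', ← hm]
    exact hk.mul (hk.mul (hk.mul (mon_el X.two X.f S)))

theorem mem_P_iff {g : commutator (orthGroup Q)} : g ∈ X.P ↔ ∃ k, Mon X.f g.1 (L k) := Iff.rfl

theorem isPGroup : IsPGroup 2 X.P := by
  rintro ⟨a, k, hk⟩
  refine ⟨3, Subtype.ext (Subtype.ext ?_)⟩
  obtain ⟨S, hS⟩ := X.exists_el (L_pow_four k ▸ hk.mul (hk.mul (hk.mul hk)))
  show a.1 ^ (2 ^ 3) = 1
  rw [show (2 : ℕ) ^ 3 = 4 + 4 from rfl, pow_add, show a.1 ^ 4 = el X.f S by rw [hS]; simp [pow_succ, mul_assoc],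
    el_sq X.two]

/-- The diagonal element as an element of the group. -/
noncomputable def d (S : Finset (Fin 7)) (h : Even S.card) : commutator (orthGroup Q) :=
  ⟨el X.f S, X.el_mem h⟩

theorem d_mem {S : Finset (Fin 7)} (h : Even S.card) : X.d S h ∈ X.P :=
  ⟨0, by rw [L_zero]; exact mon_el X.two X.f S⟩

theorem exists_d {g : commutator (orthGroup Q)} (hg : Mon X.f g.1 id) : ∃ S h, X.d S h = g := by
  obtain ⟨S, hS⟩ := X.exists_el hg
  exact ⟨S, X.even_of_mem (hS ▸ g.2), Subtype.ext hS⟩

/-- Each of the eight permutations is realized. -/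
theorem exists_real (k : Fin 8) : ∃ x : commutator (orthGroup Q), Mon X.f x.1 (L k) := by
  have hgen : ∀ i j k' l : Fin 7, i ≠ j → k' ≠ l → ∀ m, Equiv.swap i j ∘ Equiv.swap k' l = L m →
      ∃ x : commutator (orthGroup Q), Mon X.f x.1 (L m) := fun i j k' l hij hkl m hm =>
    ⟨⟨_, X.dswap_mem hij hkl⟩, hm ▸ X.mon_dswap hij hkl⟩
  have hmul : ∀ a b m, L a ∘ L b = L m → (∃ x : commutator (orthGroup Q), Mon X.f x.1 (L a)) →
      (∃ x : commutator (orthGroup Q), Mon X.f x.1 (L b)) → ∃ x : commutator (orthGroup Q), Mon X.f x.1 (L m) := by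
    rintro a b m hm ⟨x, hx⟩ ⟨y, hy⟩
    exact ⟨x * y, hm ▸ hx.mul hy⟩
  have h1 := hgen 0 1 2 3 (by decide) (by decide) 1 (by decide)
  have h2 := hgen 0 2 1 3 (by decide) (by decide) 2 (by decide)
  have h4 := hgen 0 1 4 5 (by decide) (by decide) 4 (by decide)
  have h5 := hmul 1 4 5 (by decide) h1 h4
  have h6 : ∃ x : commutator (orthGroup Q), Mon X.f x.1 (L 6) := hmul 2 4 6 (by decide) h2 h4
  fin_cases k
  exacts [⟨1, by rw [show (⟨0, _⟩ : Fin 8) = 0 from rfl, L_zero]; exact mon_one⟩, h1, h2,
    hmul 1 2 3 (by decide) h1 h2, h4, h5, h6, hmul 1 6 7 (by decide) h1 h6]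

/-- A commuting family of involutions in the monomial group indexed injectively by the even sets is diagonal. -/
theorem family_diag (a : Finset (Fin 7) → orthGroup Q)
    (hH : ∀ T : Finset (Fin 7), T.card % 2 = 0 → a T ∈ commutator (orthGroup Q))
    (hP : ∀ T : Finset (Fin 7), T.card % 2 = 0 → ∃ k, Mon X.f (a T) (L k))
    (hsq : ∀ T, a T * a T = 1) (hcom : ∀ T U, a T * a U = a U * a T) (hinj : Function.Injective a)
    {S : Finset (Fin 7)} (hS : S.card % 2 = 0) : Mon X.f (a S) id := by
  classical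
  choose! idx hidx using hP
  let I : Finset (Fin 8) := ((Finset.univ : Finset (Finset (Fin 7))).filter fun T => T.card % 2 = 0).image idx
  have hex : ∀ k ∈ I, ∃ T : Finset (Fin 7), T.card % 2 = 0 ∧ idx T = k := fun k hk => by
    obtain ⟨T, hT, rfl⟩ := Finset.mem_image.1 hk
    exact ⟨T, (Finset.mem_filter.1 hT).2, rfl⟩
  choose! rep hrep hidxrep using hex
  have hmon : ∀ k ∈ I, Mon X.f (a (rep k)) (L k) := fun k hk => by
    have := hidx _ (hrep k hk)
    rwa [hidxrep k hk] at this
  have hmemI : ∀ T : Finset (Fin 7), T.card % 2 = 0 → idx T ∈ I := fun T hT =>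
    Finset.mem_image_of_mem idx (Finset.mem_filter.2 ⟨Finset.mem_univ _, hT⟩)
  have hI : ∀ k ∈ I, ∀ l ∈ I, L k ∘ L l = L l ∘ L k ∧ L k ∘ L k = id := fun k hk l hl =>
    ⟨((hmon k hk).mul (hmon l hl)).unique (hcom (rep l) (rep k) ▸ (hmon l hl).mul (hmon k hk)),
      ((hmon k hk).mul (hmon k hk)).unique ((hsq (rep k)).symm ▸ mon_one)⟩
  have hrest : ∀ T : Finset (Fin 7), T.card % 2 = 0 →
      ∃ U : Finset (Fin 7), el X.f U = a T * a (rep (idx T)) ∧ Even U.card := by
    intro T hT
    have h1 := (hidx T hT).mul (hmon _ (hmemI T hT))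
    rw [(hI _ (hmemI T hT) _ (hmemI T hT)).2] at h1
    obtain ⟨U, hU⟩ := X.exists_el h1
    refine ⟨U, hU, X.even_of_mem ?_⟩
    rw [hU]
    exact mul_mem (hH T hT) (hH _ (hrep _ (hmemI T hT)))
  choose! rest hrest hrestEven using hrest
  have h0 := idx_zero idx rest hrestEven
    (fun k l hk hl => hI _ (hmemI k hk) _ (hmemI l hl))
    (fun T U hT hU l => by
      refine (hidx U hU).mem_iff_of_commute X.two ?_ ?_ l
      · intro x y h
        have hh := congrArg (L (idx U)) h
        have e := (hI _ (hmemI U hU) _ (hmemI U hU)).2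
        rwa [show L (idx U) (L (idx U) x) = x from congrFun e x,
          show L (idx U) (L (idx U) y) = y from congrFun e y] at hh
      · rw [hrest T hT, ← mul_assoc, hcom, mul_assoc, hcom, mul_assoc])
    (fun T U hT hU h1 h2 => by
      have h4 : a T * a (rep (idx T)) = a U * a (rep (idx U)) := by rw [← hrest T hT, ← hrest U hU, h2]
      rw [h1] at h4
      exact hinj (mul_right_cancel h4)) S hS
  have := hidx S hS
  rwa [h0, L_zero] at this

/-- Conjugation by a normalizing element preserves diagonal elements. -/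
theorem conj_diag {g : commutator (orthGroup Q)} (hg : ∀ x ∈ X.P, g * x * g⁻¹ ∈ X.P)
    {S : Finset (Fin 7)} (hS : Even S.card) : Mon X.f (g * X.d S hS * g⁻¹).1 id := by
  refine X.family_diag (fun T => g.1 * el X.f T * g.1⁻¹)
    (fun T hT => (g * X.d T (Nat.even_iff.2 hT) * g⁻¹).2)
    (fun T hT => hg _ (X.d_mem (Nat.even_iff.2 hT))) (fun T => ?_) (fun T U => ?_)
    (fun T U h => el_injective X.two X.f (mul_left_cancel (mul_right_cancel h))) (Nat.even_iff.1 hS)
  · rw [show g.1 * el X.f T * g.1⁻¹ * (g.1 * el X.f T * g.1⁻¹) =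
      g.1 * (el X.f T * el X.f T) * g.1⁻¹ by group, el_sq X.two, mul_one, mul_inv_cancel]
  · rw [show g.1 * el X.f T * g.1⁻¹ * (g.1 * el X.f U * g.1⁻¹) = g.1 * (el X.f T * el X.f U) * g.1⁻¹ by group,
      el_mul_el X.two, symmDiff_comm, ← el_mul_el X.two]
    group

/-- An element normalizing the monomial group is monomial. -/
theorem exists_mon {g : commutator (orthGroup Q)} (hg : ∀ x ∈ X.P, g⁻¹ * x * g⁻¹⁻¹ ∈ X.P) :
    ∃ p : Fin 7 → Fin 7, Mon X.f g.1 p := by
  have key : ∀ i, ∃ j, g.1.1 (X.f.b i) = X.f.b j ∨ g.1.1 (X.f.b i) = -X.f.b j := by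
    intro i
    set w := g.1.1 (X.f.b i) with hw
    have heig : ∀ S : Finset (Fin 7), Even S.card → (el X.f S).1 w = w ∨ (el X.f S).1 w = -w := by
      intro S hS
      have h := X.conj_diag hg hS i
      have e : g.1 * (g⁻¹ * X.d S hS * g⁻¹⁻¹).1 = el X.f S * g.1 := by
        show g.1 * (g.1⁻¹ * el X.f S * g.1⁻¹⁻¹) = _
        group
      have e' : g.1.1 ((g⁻¹ * X.d S hS * g⁻¹⁻¹).1.1 (X.f.b i)) = (el X.f S).1 w :=
        congrArg (fun z : orthGroup Q => z.1 (X.f.b i)) e
      rcases h with h | h <;> rw [h] at e'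
      · exact Or.inl e'.symm
      · rw [map_neg] at e'; exact Or.inr e'.symm
    have hcoord : ∀ (S : Finset (Fin 7)) (j : Fin 7),
        X.f.b.repr ((el X.f S).1 w) j = (if j ∈ S then -1 else 1) * X.f.b.repr w j := by
      intro S j
      have := congrFun (congrArg DFunLike.coe (X.f.b.ext (f₁ := (X.f.b.coord j) ∘ₗ ((el X.f S).1 : V →ₗ[F] V))
        (f₂ := (if j ∈ S then (-1 : F) else 1) • X.f.b.coord j) fun l => by
          show X.f.b.repr ((el X.f S).1 (X.f.b l)) j = (if j ∈ S then (-1 : F) else 1) * X.f.b.repr (X.f.b l) j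
          rw [el_apply X.two]
          rcases eq_or_ne l j with rfl | hlj
          · split_ifs <;> simp
          · split_ifs <;> simp [Finsupp.single_eq_of_ne (Ne.symm hlj)])) w
      exact this
    by_cases h0 : ∀ j, X.f.b.repr w j = 0
    · exfalso
      have : w = 0 := X.f.b.repr.map_eq_zero_iff.1 (Finsupp.ext h0)
      exact X.f.b.ne_zero i (g.1.1.map_eq_zero_iff.1 (hw ▸ this))
    push Not at h0
    obtain ⟨j, hj⟩ := h0
    refine ⟨j, ?_⟩
    have hall : ∀ l, l ≠ j → X.f.b.repr w l = 0 := by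
      intro l hl
      by_contra hne
      obtain ⟨m, hmj, hml⟩ : ∃ m : Fin 7, m ≠ j ∧ m ≠ l :=
        (by decide : ∀ j l : Fin 7, ∃ m : Fin 7, m ≠ j ∧ m ≠ l) j l
      have hS : Even ({j, m} : Finset (Fin 7)).card := by rw [Finset.card_pair hmj.symm]; exact even_two
      have e1 := hcoord {j, m} j
      have e2 := hcoord {j, m} l
      rw [if_pos (by simp)] at e1
      rw [if_neg (by simp [hl, hml.symm])] at e2
      rcases heig _ hS with e | e <;> rw [e] at e1 e2
      · exact hj ((mul_eq_zero.1 (show (2 : F) * X.f.b.repr w j = 0 by linear_combination e1)).resolve_left X.two)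
      · rw [map_neg, Finsupp.neg_apply] at e2
        exact hne ((mul_eq_zero.1 (show (2 : F) * X.f.b.repr w l = 0 by linear_combination -e2)).resolve_left X.two)
    have hwj : w = X.f.b.repr w j • X.f.b j := by
      conv_lhs => rw [← X.f.b.sum_repr w]
      exact Finset.sum_eq_single j (fun l _ hl => by rw [hall l hl, zero_smul])
        (fun h => absurd (Finset.mem_univ j) h)
    have hQ : X.f.b.repr w j * X.f.b.repr w j * X.c = X.c := by
      have h : Q w = X.c := by rw [hw, apply_quad, X.norm]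
      rwa [hwj, quad_smul', X.norm] at h
    have ha := mul_right_cancel₀ X.c_ne (hQ.trans (one_mul X.c).symm)
    rcases mul_self_eq_one_iff.1 ha with e | e <;> rw [hwj, e]
    · exact Or.inl (one_smul F _)
    · exact Or.inr (neg_one_smul F _)
  choose p hp using key
  exact ⟨p, hp⟩

theorem mon_injective {g : orthGroup Q} {p : Fin 7 → Fin 7} (hg : Mon X.f g p) : Function.Injective p := by
  intro i j h
  refine eq_of_pm (f := X.f) ?_
  rcases hg i with e | e <;> rcases hg j with e' | e' <;> rw [h] at e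
  · exact Or.inl (g.1.injective (e.trans e'.symm))
  · exact Or.inr (g.1.injective (by rw [map_neg, e, e', neg_neg]))
  · exact Or.inr (g.1.injective (by rw [map_neg, e, e']))
  · exact Or.inl (g.1.injective (e.trans e'.symm))

/-- The monomial group is its own normalizer. -/
theorem normalizer_le : Subgroup.normalizer (X.P : Set (commutator (orthGroup Q))) ≤ X.P := by
  intro g hgN
  have hN : ∀ x ∈ X.P, g * x * g⁻¹ ∈ X.P := fun x hx => (Subgroup.mem_normalizer_iff.1 hgN x).1 hx
  obtain ⟨p, hp⟩ := X.exists_mon (g := g) fun x hx => (Subgroup.mem_normalizer_iff.1 (inv_mem hgN) x).1 hx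
  have hpi := X.mon_injective hp
  have hps : Function.Surjective p := Finite.injective_iff_surjective.1 hpi
  have himg : ∀ k, ∃ k', p ∘ L k = L k' ∘ p := by
    intro k
    obtain ⟨x, hx⟩ := X.exists_real k
    obtain ⟨k', hk'⟩ := hN x ⟨k, hx⟩
    refine ⟨k', (hp.mul hx).unique ?_⟩
    have := hk'.mul hp
    rwa [show (g * x * g⁻¹).1 * g.1 = g.1 * x.1 from show g.1 * x.1 * g.1⁻¹ * g.1 = _ by group] at this
  choose π hπ using himg
  have hπs : Function.Surjective π := Finite.injective_iff_surjective.1 fun k l h => L_injective (funext fun x =>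
    hpi ((congrFun (hπ k) x).trans (h ▸ (congrFun (hπ l) x).symm)))
  have hcomm : ∀ k x, L (π k) (p x) = p (L k x) := fun k x => (congrFun (hπ k) x).symm
  have h6 : p 6 = 6 := fixed_six _ fun k' => by
    obtain ⟨k, rfl⟩ := hπs k'
    rw [hcomm, L_six]
  have h45 : (p 4 = 4 ∨ p 4 = 5) ∧ (p 5 = 4 ∨ p 5 = 5) := by
    have hL : ∀ k, (L k 4 = 4 ∨ L k 4 = 5) ∧ (L k 5 = 5 ∨ L k 5 = 4) := by decide
    constructor
    · rcases two_images (p 4) (p 5) fun k' => by
        obtain ⟨k, rfl⟩ := hπs k'
        rw [hcomm]; exact (hL k).1.imp (congrArg p) (congrArg p) with h | h | h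
      exacts [Or.inl h, Or.inr h, absurd (hpi (h.trans h6.symm)) (by decide)]
    · rcases two_images (p 5) (p 4) fun k' => by
        obtain ⟨k, rfl⟩ := hπs k'
        rw [hcomm]; exact (hL k).2.imp (congrArg p) (congrArg p) with h | h | h
      exacts [Or.inl h, Or.inr h, absurd (hpi (h.trans h6.symm)) (by decide)]
  have h1 : ∀ x, p (L 1 x) = L 1 (p x) := by
    intro x
    have e : p (L 1 x) = (L (π 6) ∘ L (π 6)) (p x) := by
      rw [Function.comp_apply, hcomm, hcomm, ← Function.comp_apply (f := L 6) (g := L 6), square_six]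
    rcases square_eq (π 6) with h | h
    · exfalso
      have h0 : p (L 1 0) = p 0 := by
        rw [← congrFun square_six 0, Function.comp_apply, ← hcomm, ← hcomm, ← Function.comp_apply (f := L (π 6))
          (g := L (π 6)), h, id_eq]
      exact absurd (hpi h0) (by decide)
    · rw [e, h]
  have h5 : p 5 = if p 4 = 4 then 5 else 4 :=
    four_or_five _ _ h45.1 h45.2 fun h => absurd (hpi h) (by decide)
  have hlow : ∀ i : Fin 7, (i : ℕ) < 4 → (p i : ℕ) < 4 := by
    intro i hi
    have hne : ∀ j : Fin 7, 4 ≤ (j : ℕ) → p i ≠ p j := fun j hj h => by rw [hpi h] at hi; omega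
    rcases cases_six (p i) with h | h | h | h
    · exact h
    · rcases h45.1 with e | e
      · exact absurd (h.trans e.symm) (hne 4 le_rfl)
      · rcases h45.2 with e' | e'
        · exact absurd (h.trans e'.symm) (hne 5 (by decide))
        · exact absurd (hpi (e.trans e'.symm)) (by decide)
    · rcases h45.1 with e | e
      · rcases h45.2 with e' | e'
        · exact absurd (hpi (e.trans e'.symm)) (by decide)
        · exact absurd (h.trans e'.symm) (hne 5 (by decide))
      · exact absurd (h.trans e.symm) (hne 4 le_rfl)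
    · exact absurd (h.trans h6.symm) (hne 6 (by decide))
  have hcand : p = cand (p 0) (p 2) (p 4) := by
    funext i
    fin_cases i
    · rfl
    · exact h1 0
    · rfl
    · exact h1 2
    · rfl
    · exact h5
    · exact h6
  obtain ⟨k, hk⟩ := cand_mem (p 0) (p 2) (p 4) (hlow 0 (by decide)) (hlow 2 (by decide)) h45.1
    (fun h => absurd (hpi h) (by decide)) (fun h => absurd (hpi (h.trans (h1 0).symm)) (by decide))
  rw [← hcand] at hk
  rcases hk with hk | hk
  · exact ⟨k, hk ▸ hp⟩
  exfalso
  obtain ⟨m, hm⟩ := exists_left_inv k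
  obtain ⟨y, hy⟩ := X.exists_real m
  refine X.not_swap (y * g).2 (i := 4) (j := 5) (by decide) ?_
  have hs : s45 ∘ s45 = id := by decide
  have : L m ∘ p = (Equiv.swap (4 : Fin 7) 5 : Fin 7 → Fin 7) := by
    rw [show p = p ∘ s45 ∘ s45 by rw [hs, Function.comp_id], ← Function.comp_assoc p, hk, ← Function.comp_assoc, hm,
      Function.id_comp]
    decide
  rw [← this]
  exact hy.mul hp

end Ctx

end CfsgLib.Fsys.OmegaSeven
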